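import Cfsg.Agent.HZ.L.CL.Bas
import Cfsg.Agent.HZ.L.SL.QI

/-!
# HZ/L, the symplectic and the spin groups: the family statement (helper60)

* `exists_core`, `nc_of` : a label without a proper core has a central vector;
* `ok`, `b1`, `tri`, `fm_of`.
-/

set_option autoImplicit false
set_option linter.unusedSectionVars false

namespace Cfsg.Agent.HZ.L.CL

open Cfsg Cfsg.Agent.DL Cfsg.Agent.DL.PP Matrix Cfsg.Agent.KZ.Lie Cfsg.Agent.ODD.Red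

section comb

variable {R : Type} [Fintype R] [DecidableEq R] {Ψ : RS R} {A : Mat R}

theorem cast_mul (A A' : Mat R) (y : R → ℂ) :
    (A * A').map (Int.cast : ℤ → ℂ) *ᵥ y = A.map (Int.cast : ℤ → ℂ) *ᵥ (A'.map (Int.cast : ℤ → ℂ) *ᵥ y) := by
  rw [mulVec_mulVec]
  exact congrArg (· *ᵥ y) (Matrix.map_mul (L := A) (M := A') (f := Int.castRingHom ℂ))

theorem cast_one (y : R → ℂ) : (1 : Mat R).map (Int.cast : ℤ → ℂ) *ᵥ y = y := by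
  rw [Matrix.map_one _ Int.cast_zero Int.cast_one, one_mulVec]

theorem fix_of {y : R → ℂ} (h : ∀ a ∈ Ψ, ev a.1 y = 0) (hA : A ∈ WW Ψ) : A.map (Int.cast : ℤ → ℂ) *ᵥ y = y := by
  induction hA using Submonoid.closure_induction with
  | mem x hx =>
    obtain ⟨a, ha, rfl⟩ := hx
    funext i
    have h1 : (rfm a) i = Pi.single i 1 + (-a.2 i) • a.1 := funext fun j => by
      simp [rfm, one_apply, vecMulVec_apply, Pi.single_apply, eq_comm, sub_eq_add_neg]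
    change ev (rfm a i) y = _
    rw [h1, ev_add, ev_smul, h a ha, mul_zero, add_zero]
    simp [ev, dotProduct, Pi.single_apply]
  | one => exact cast_one y
  | mul a b _ _ ha hb => rw [cast_mul, hb, ha]

/-- an integral vector with the same roots and a larger stabiliser -/
theorem exists_core (hΨ : Ψ.Finite) (y : R → ℂ) : ∃ lam : Vec R, (∀ a ∈ Ψ, a.1 ⬝ᵥ lam = 0 ↔ ev a.1 y = 0) ∧
    ∀ A : Mat R, A.map (Int.cast : ℤ → ℂ) *ᵥ y = y → A *ᵥ lam = lam := by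
  have : Finite {a // a ∈ Ψ ∧ ev a.1 y ≠ 0} := (hΨ.subset fun _ h => h.1).to_subtype
  obtain ⟨φ, hφ⟩ := Module.exists_dual_forall_apply_ne_zero (K := ℚ) (fun a : {a // a ∈ Ψ ∧ ev a.1 y ≠ 0} => ev a.1.1 y)
    fun a => a.2.2
  obtain ⟨m, hm⟩ := IsLocalization.exist_integer_multiples_of_finite (nonZeroDivisors ℤ) fun i => φ (y i)
  choose mu hmu using hm
  have h3 : ∀ a : Vec R, ((a ⬝ᵥ mu : ℤ) : ℚ) = (m : ℤ) • φ (ev a y) := fun a => by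
    simp only [ev, dotProduct, map_sum, Finset.smul_sum, Int.cast_sum, Int.cast_mul]
    refine Finset.sum_congr rfl fun i _ => ?_
    rw [show ((mu i : ℤ) : ℚ) = _ from hmu i, ← zsmul_eq_mul, ← zsmul_eq_mul, map_zsmul, smul_comm]
  refine ⟨mu, fun a ha => ⟨fun h => by_contra fun h2 => ?_, fun h => ?_⟩, fun A h => funext fun i => ?_⟩
  · have h5 := h3 a.1
    rw [h, Int.cast_zero] at h5
    exact hφ ⟨a, ha, h2⟩ ((smul_eq_zero.1 h5.symm).resolve_left (nonZeroDivisors.coe_ne_zero m))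
  · exact Int.cast_injective (α := ℚ) (by rw [h3, h, map_zero, smul_zero, Int.cast_zero])
  · refine Int.cast_injective (α := ℚ) ((h3 (A i)).trans ?_)
    rw [show ev (A i) y = y i from congrFun h i]
    exact (hmu i).symm

theorem eq_of_pow {p q m : ℕ} (hp : p.Prime) (hm : ¬ p ∣ m) {a b : ℂˣ} (ha : a ^ m = 1) (hb : b ^ m = 1)
    (h : a ^ p ^ q = b ^ p ^ q) : a = b := by
  have h1 : orderOf (a * b⁻¹) ∣ p ^ q := orderOf_dvd_of_pow_eq_one (by rw [mul_pow, h, inv_pow, mul_inv_cancel])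
  have h2 : orderOf (a * b⁻¹) ∣ m := orderOf_dvd_of_pow_eq_one (by rw [mul_pow, ha, inv_pow, hb, mul_inv_cancel])
  exact mul_inv_eq_one.1 (orderOf_eq_one_iff.1
    (Nat.eq_one_of_dvd_coprimes ((hp.coprime_iff_not_dvd.2 hm).pow_left q) h1 h2))

theorem ph_pow {p q m : ℕ} (hp : p.Prime) (hm : ¬ p ∣ m) {a b : ℂˣ} (ha : a ^ m = 1) (hb : b ^ m = 1)
    (h : ph (a ^ p ^ q) = ph (b ^ p ^ q)) : ph a = ph b := by
  have key : ∀ {a : ℂˣ}, a ^ m = 1 → (a ^ p ^ q) ^ 2 = 1 → a ^ 2 = 1 := fun {a} ha h =>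
    eq_of_pow (q := q) hp hm (by rw [← pow_mul, mul_comm, pow_mul, ha, one_pow]) (one_pow m)
      (by rw [← pow_mul, mul_comm, pow_mul, h, one_pow])
  exact ph_eq.2 ((ph_eq.1 h).imp (eq_of_pow hp hm ha hb) fun h => ⟨key ha h.1, key hb h.2⟩)

variable {n : ℕ} {κ : Kd} {J : Matrix (Fin n) R ℤ} {y : Fin n → ℤ} {c c' : Lb R}

theorem ev_pow {p q : ℕ} (hp : p.Prime) (h : Lat κ J) (hc : Fo p c) {a : Vec R × Vec R} (ha : a ∈ sub κ J y)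
    (e : ev a.1 (yv J (c ^ p ^ q)) = 0) : ev a.1 (yv J c) = 0 := by
  obtain ⟨r, hr, e1, -⟩ := ha
  obtain ⟨i, j, s, t, m, m', hN⟩ := full_nf hr.1
  obtain ⟨l, hl, hc⟩ := hc
  have h1 : ∀ (i : Fin n) (z : ℤ), (bb J c i ^ z) ^ l = 1 := fun i z => by
    rw [← zpow_natCast, ← _root_.zpow_mul, mul_comm, _root_.zpow_mul, zpow_natCast, ← bb_pow, hc, bb_eq, map_one, _root_.one_zpow]
  have h2 : ∀ (x : ℂˣ) (z : ℤ), (x ^ p ^ q) ^ z = (x ^ z) ^ p ^ q := fun x z => by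
    rw [← zpow_natCast, ← zpow_natCast, ← _root_.zpow_mul, ← _root_.zpow_mul, mul_comm]
  have h3 : ∀ a b : ℂˣ, ((s : ℤ) : ℂ) * ph a + ((t : ℤ) : ℂ) * ph b = 0 ↔ ph (a ^ (s : ℤ)) = ph (b ^ ((-t : ℤˣ) : ℤ)) :=
    fun a b => by
      rw [ph_zpow, ph_zpow, Units.val_neg, Int.cast_neg, neg_mul, eq_neg_iff_add_eq_zero]
  rw [e1, h.ev_yv, hN.ev_iff, h3] at e ⊢
  rw [bb_pow, bb_pow, h2, h2] at e
  exact ph_pow hp hl (h1 _ _) (h1 _ _) e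

/-- the part of type `A` -/
def yA (y : Fin n → ℤ) : Fin n → ℤ := fun i => if y i = 0 then 2 * (i : ℤ) + 1 else 2 * y i

theorem mem_A {a : Vec R × Vec R} : a ∈ sub κ J (yA y) ↔ a ∈ sub κ J y ∧ ∀ i, y i = 0 → (J *ᵥ a.2) i = 0 := by
  have key : ∀ r ∈ full κ n, r.1 ⬝ᵥ yA y = 0 ↔ r.1 ⬝ᵥ y = 0 ∧ ∀ i, y i = 0 → r.2 i = 0 := fun r hr => by
    obtain ⟨i, j, s, t, m, m', hN⟩ := full_nf hr
    have h1 : (∀ k, y k = 0 → r.2 k = 0) ↔ y i ≠ 0 ∧ y j ≠ 0 :=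
      ⟨fun h => ⟨fun e => (hN.supp2 i).2 (.inl rfl) (h i e), fun e => (hN.supp2 j).2 (.inr rfl) (h j e)⟩,
        fun h k e => by_contra fun e' => by rcases (hN.supp2 k).1 e' with rfl | rfl; exacts [h.1 e, h.2 e]⟩
    have h2 : (i : ℤ) = j → s = t := fun e => (hN.eq (Fin.ext (by exact_mod_cast e))).1
    rw [hN.dot_iff, hN.dot_iff, h1, yA, yA]
    rcases Int.units_eq_one_or s with rfl | rfl <;> rcases Int.units_eq_one_or t with rfl | rfl <;>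
      by_cases a : y i = 0 <;> by_cases b : y j = 0 <;> simp [a, b] at h2 ⊢ <;> omega
  constructor
  · rintro ⟨r, hr, e1, e2⟩
    have h1 := (key r hr.1).1 hr.2
    exact ⟨⟨r, ⟨hr.1, h1.1⟩, e1, e2⟩, e2 ▸ h1.2⟩
  · rintro ⟨⟨r, hr, e1, e2⟩, h1⟩
    exact ⟨r, ⟨hr.1, (key r hr.1).2 ⟨hr.2, e2 ▸ h1⟩⟩, e1, e2⟩

/-- the part on the zero block -/
def pZ (κ : Kd) (J : Matrix (Fin n) R ℤ) (y : Fin n → ℤ) : RS R := {a | a ∈ sub κ J y ∧ ∀ i, y i ≠ 0 → (J *ᵥ a.2) i = 0}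

theorem perp_of {a : Vec R × Vec R} (ha : a ∈ sub κ J y) {v : Vec R}
    (e : ∀ i, (J *ᵥ a.2) i = 0 ∨ (J *ᵥ v) i = 0) : a.1 ⬝ᵥ v = 0 := by
  obtain ⟨r, hr, e1, e2⟩ := ha
  obtain ⟨i, j, s, t, m, m', hN⟩ := full_nf hr.1
  rw [e1, ← dotProduct_mulVec, hN.dot_iff, (e i).resolve_left (e2 ▸ (hN.supp2 i).2 (.inl rfl)),
    (e j).resolve_left (e2 ▸ (hN.supp2 j).2 (.inr rfl)), mul_zero, mul_zero, add_zero]

theorem zero_iff (h : Lat κ J) {π : Equiv.Perm (Fin n)} {s : Fin n → ℤˣ} (hA : Sp J A π s) (hN : Nm A (sub κ J y))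
    (h2 : ∀ i, y i = 0 → ∃ j, j ≠ i ∧ y j = 0) (i : Fin n) : y (π i) = 0 ↔ y i = 0 := by
  have h1 : Set.MapsTo π {i | y i = 0} {i | y i = 0} := fun i (hi : y i = 0) => by
    obtain ⟨j, e, hj⟩ := h2 i hi
    have h3 : ∀ t : ℤˣ, (s i * 1 : ℤˣ) * y (π i) + (s j * t : ℤˣ) * y (π j) = 0 := fun t => by
      obtain ⟨a, ha, -, e2⟩ := h.mem_sub (y := y) (long_mem (κ := κ) e.symm 1 t)
        (by rw [add_dotProduct, uv_dot, uv_dot, hi, hj, mul_zero, mul_zero, add_zero])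
      obtain ⟨b, ⟨r, hr, -, e3⟩, e4, -⟩ := hN a ha
      obtain ⟨_, _, _, _, _, _, hr'⟩ := full_nf hr.1
      have h4 := (hr'.dot_iff' y).2 ((hr'.dot_iff y).1 hr.2)
      rwa [← e3, ← e4, hA.pv, e2, pv_add, pv_uv, pv_uv, add_dotProduct, uv_dot, uv_dot] at h4
    have h4 := h3 1
    have h5 := h3 (-1)
    simp only [mul_one, mul_neg, Units.val_neg, neg_mul] at h4 h5
    exact (mul_eq_zero.1 (show (s i : ℤ) * y (π i) = 0 by omega)).resolve_left (s i).ne_zero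
  refine ⟨fun e => ?_, fun e => h1 e⟩
  obtain ⟨k, hk, e'⟩ := ((Set.toFinite _).injOn_iff_bijOn_of_mapsTo h1).1 π.injective.injOn |>.surjOn e
  exact π.injective e' ▸ hk

theorem dec (h : Lat κ J) (hA : SP J A) (hN : Nm A (sub κ J y)) (h2 : ∀ i, y i = 0 → ∃ j, j ≠ i ∧ y j = 0) :
    Dec (sub κ J y) (sub κ J (yA y)) (pZ κ J y) A := by
  obtain ⟨π, s, hA⟩ := hA
  have h1 := zero_iff h hA hN h2
  refine ⟨Set.ext fun a => ⟨fun ha => ?_, fun ha => ha.elim (fun e => (mem_A.1 e).1) fun e => e.1⟩, fun a ha b hb => ?_,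
    fun a ha => ?_, fun a ha => ?_⟩
  · obtain ⟨r, hr, e1, e2⟩ := id ha
    obtain ⟨i, j, s, t, m, m', hr'⟩ := full_nf hr.1
    have h3 := (hr'.dot_iff y).1 hr.2
    have h4 : y i = 0 ↔ y j = 0 := by
      rcases Int.units_eq_one_or s with rfl | rfl <;> rcases Int.units_eq_one_or t with rfl | rfl <;> simp at h3 <;> omega
    by_cases e : y i = 0
    · refine .inr ⟨ha, fun k hk => by_contra fun e' => ?_⟩
      rcases (hr'.supp2 k).1 (e2 ▸ e') with rfl | rfl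
      exacts [hk e, hk (h4.1 e)]
    · refine .inl (mem_A.2 ⟨ha, fun k hk => by_contra fun e' => ?_⟩)
      rcases (hr'.supp2 k).1 (e2 ▸ e') with rfl | rfl
      exacts [e hk, e (h4.2 hk)]
  · have h3 := mem_A.1 ha
    exact ⟨perp_of h3.1 fun i => (em (y i = 0)).imp (h3.2 i) (hb.2 i),
      perp_of hb.1 fun i => (em (y i = 0)).symm.imp (hb.2 i) (h3.2 i)⟩
  · have h3 := mem_A.1 ha
    obtain ⟨b, hb, e1, e2⟩ := hN a h3.1
    refine ⟨b, mem_A.2 ⟨hb, fun k hk => ?_⟩, e1, e2⟩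
    obtain ⟨k, rfl⟩ := π.surjective k
    rw [← e1, hA, h3.2 k ((h1 k).1 hk), mul_zero]
  · obtain ⟨b, hb, e1, e2⟩ := hN a ha.1
    refine ⟨b, ⟨hb, fun k hk => ?_⟩, e1, e2⟩
    obtain ⟨k, rfl⟩ := π.surjective k
    rw [← e1, hA, ha.2 k (mt (h1 k).2 hk), mul_zero]

theorem ex_of (hE : BoxEx) (h : Lat κ J) (h3 : Nat.card {i // y i = 0} ≤ 3) : Ex (sub κ J y) :=
  ⟨n, κ, _, hE n κ R J y h, .inl (by simpa only [Int.natAbs_eq_zero] using h3)⟩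

theorem ex_A (hE : BoxEx) (h : Lat κ J) : Ex (sub κ J (yA y)) := by
  have : IsEmpty {i // yA y i = 0} := ⟨fun i => by
    have h1 := i.2
    unfold yA at h1
    split_ifs at h1 <;> omega⟩
  exact ex_of hE h (by rw [Nat.card_of_isEmpty]; omega)

theorem J_uv (h : Lat κ J) {i k : Fin n} : (J *ᵥ (Hm J *ᵥ uv i 1)) k = 0 ↔ k ≠ i := by
  rw [h.JH, Pi.smul_apply, uv_apply]
  split_ifs with e <;> simp [e]

/-- the base case -/
theorem rl_of (h : Lat κ J) (h2 : ∀ i, y i = 0 → ∃ j, j ≠ i ∧ y j = 0) {i₀ : Fin n} (h0 : y i₀ = 0)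
    (hc : NC (sub κ J y) J c) (hc' : NC (sub κ J y) J c') (hA : A ∈ WW (sub κ J (yA y)))
    (e : ∀ v, Perp (pZ κ J y) v → chr (A *ᵥ v) c' = chr v c) : Rl J (sub κ J y) c c' := by
  have hz : Zr κ y := fun i hi => .inr (h2 i hi)
  obtain ⟨π, s, hs⟩ := sp_WW hA
  have h3 : ∀ i, y i ≠ 0 → bb J c i = bb J c' (π i) ^ (s i : ℤ) := fun i hi =>
    hs.bb h (e _ fun a ha => perp_of ha.1 fun k => (em (k = i)).imp (fun e : k = i => ha.2 k (e ▸ hi)) (J_uv h).2)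
  have h4 : ∀ i, y i = 0 → π i = i := fun i hi => by
    have h5 : Perp (sub κ J (yA y)) (Hm J *ᵥ uv i 1) := fun a ha =>
      perp_of ha fun k => (em (k = i)).imp (fun e : k = i => (mem_A.1 ha).2 k (e ▸ hi)) (J_uv h).2
    have h6 := hs (Hm J *ᵥ uv i 1) i
    rw [h5.fix hA] at h6
    by_contra h7
    rw [(J_uv h).2 h7] at h6
    exact (J_uv h).1 ((mul_eq_zero.1 h6.symm).resolve_left (s i).ne_zero) rfl
  have h5 : ∀ (m : ℕ) (i : Fin n), bb J c i ^ (2 * m) = 1 ↔ bb J c' (π i) ^ (2 * m) = 1 := fun m i => by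
    by_cases hi : y i = 0
    · rw [h4 i hi, pow_mul, pow_mul, hc.sq h hz hi, hc'.sq h hz hi]
    · rw [h3 i hi]
      rcases Int.units_eq_one_or (s i) with e | e <;> simp [e]
  refine ⟨⟨A, WW_mono (fun a ha => (mem_A.1 ha).1) hA, hs.yv h fun i => ?_⟩, fun hg => ?_, fun hg => ?_⟩
  · by_cases hi : y i = 0
    · rw [h4 i hi, ph_zero.2 (hc.sq h hz hi), ph_zero.2 (hc'.sq h hz hi), mul_zero]
    · exact ph_flip (h3 i hi)
  · obtain ⟨m, hm, hg⟩ := hg.bb h (hc.sq h hz h0)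
    exact gd_of_bb h hm fun k => by
      obtain ⟨k, rfl⟩ := π.surjective k
      exact (h5 m k).1 (hg k)
  · obtain ⟨m, hm, hg⟩ := hg.bb h (hc'.sq h hz h0)
    exact gd_of_bb h hm fun k => (h5 m k).2 (hg _)

end comb

variable {p : ℕ} [Fact p.Prime] {k : Type} [Field k] [CharP k p] [IsAlgClosed k] {Y : Type} [Group Y] {N : Type}
  [Fintype N] [DecidableEq N] {ρ : Y →* GL N k} {F : MulAut Y} {G : Subgroup Y} {D : Datum p ρ F G}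
  {n : ℕ} {κ : Kd} {Jf : ∀ R : Type, Matrix (Fin n) R ℤ} {j : ℕ} {B : Mat D.R} {w : D.W} {c c' : Lbl D}

theorem exists_inv {Ψ : RS D.R} (h : Ψ ⊆ rts D) {A : Mat D.R} (hA : A ∈ WW Ψ) : ∃ A' ∈ WW Ψ, A' * A = 1 ∧ A * A' = 1 := by
  obtain ⟨w, hw, rfl⟩ := (mem_WW_sub h).1 hA
  exact ⟨_, (mem_WW_sub h).2 ⟨w⁻¹, inv_mem hw, rfl⟩, by rw [← D.Wm_mul, inv_mul_cancel, D.Wm_one],
    by rw [← D.Wm_mul, mul_inv_cancel, D.Wm_one]⟩

theorem Adm.sp {J : Matrix (Fin n) D.R ℤ} (hA : Adm κ J (rts D) B) (w : D.W) : SP J (D.Wm w) := by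
  obtain ⟨-, -, y, e⟩ := hA
  exact sp_WW (e ▸ Wm_mem w)

/-- **a label without a proper core has a central vector** -/
theorem nc_of (hS : St D j B) (hA : Adm κ (Jf D.R) (rts D) B) (hc : Fx D w c)
    (h : ¬ Ctl p (L κ Jf) (rts D) (D.Wm w * B) c) : NC (rts D) (Jf D.R) c := by
  obtain ⟨lam₀, h1, h2⟩ := exists_core (finite_rts D) (yv (Jf D.R) c)
  by_contra h3
  refine h ⟨lam₀, lev_ne.2 fun h4 => h3 fun a ha => (h1 a ha).1 (h4 a ha), fun a ha => ?_, fun lam hl _ => ?_⟩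
  · obtain ⟨b, hb, e1, e2⟩ := hS.nm w a ha.1
    refine ⟨b, ⟨hb, (h1 b hb).2 ?_⟩, e1, e2⟩
    have h4 : Tl (D.Wm w * B) c (c ^ p ^ j) := fun v => by
      rw [← hc v, hS.WM, smul_mulVec, chr_zsmul, map_pow, ← Nat.cast_pow, zpow_natCast]
    obtain ⟨y, e⟩ := hA.2.2
    refine ev_pow (q := j) Fact.out hA.1 (fo_of_fx hc) (e ▸ hb) ?_
    rw [← ((hA.sp w).mul hA.2.1).yv hA.1 h4, ev_mul, e2]
    exact (h1 a ha.1).1 ha.2
  · rintro c' c'' h hh ⟨⟨m', hm', e'⟩, -⟩ ⟨⟨m'', hm'', e''⟩, -⟩ ht -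
    obtain ⟨u, hu, hu1, hu2⟩ := exists_inv (lev_sub _ _) hm''
    obtain ⟨v, hv, -, hv2⟩ := exists_inv (lev_sub _ _) hm'
    obtain ⟨x, rfl⟩ := mem_WW.1 hh
    have h4 : (u * D.Wm x * m').map (Int.cast : ℤ → ℂ) *ᵥ yv (Jf D.R) c = yv (Jf D.R) c := by
      rw [cast_mul, cast_mul, e', (hA.sp x).yv hA.1 ht, ← e'', ← cast_mul, hu1, cast_one]
    obtain ⟨z, hz⟩ := mem_WW.1 (mul_mem (mul_mem (WW_mono (lev_sub _ _) hu) hh) (WW_mono (lev_sub _ _) hm'))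
    have h5 : u * D.Wm x * m' ∈ WW (lev (rts D) lam) :=
      WW_mono hl (mem_WW_lev.2 ⟨z, show D.Wm z *ᵥ lam₀ = lam₀ from hz ▸ h2 _ h4, hz⟩)
    have h6 := mul_mem (mul_mem hm'' h5) hv
    rwa [mul_assoc u, ← mul_assoc m'', hu2, one_mul, mul_assoc, hv2, mul_one] at h6

theorem ok : OK p (L κ Jf) := by
  intro k _ _ _ Y _ N _ _ ρ F G D _ j B _ hA
  refine ⟨?_, ?_, fun v c c' h => ?_, fun w lam _ => ?_, fun w lam _ c c' h => ?_⟩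
  · rintro c c' ⟨⟨h, hh, e⟩, e'⟩
    obtain ⟨u, hu, hu1, -⟩ := exists_inv subset_rfl hh
    exact ⟨⟨u, hu, by rw [← e, ← cast_mul, hu1, cast_one]⟩, e'.symm⟩
  · rintro c c' c'' ⟨⟨h, hh, e⟩, e'⟩ ⟨⟨u, hu, f⟩, f'⟩
    exact ⟨⟨u * h, mul_mem hu hh, by rw [cast_mul, e, f]⟩, e'.trans f'⟩
  · exact ⟨⟨_, Wm_mem v, (Adm.sp hA v).yv hA.1 h⟩, fun e => e.tl (Rel.symm h), fun e => e.tl h⟩
  · obtain ⟨y, e⟩ := hA.2.2
    exact ⟨hA.1, (Adm.sp hA w).mul hA.2.1, e ▸ lev_sub' κ _ y lam⟩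
  · exact ⟨h.1.imp fun _ h => ⟨WW_mono (lev_sub _ _) h.1, h.2⟩, h.2⟩

theorem b1 (hE : BoxEx) : AllD p fun D => ∀ j B, St D j B → (L κ Jf).adm (rts D) B → Ex (rts D) ∨ B1 D (L κ Jf) B := by
  intro k _ _ _ Y _ N _ _ ρ F G D _ j B hS hA
  obtain ⟨y, e⟩ := hA.2.2
  by_cases h3 : Nat.card {i // y i = 0} ≤ 3
  · exact .inl (e ▸ ex_of hE hA.1 h3)
  have : Nontrivial {i // y i = 0} := Finite.one_lt_card_iff_nontrivial.1 (by omega)
  have h2 : ∀ i, y i = 0 → ∃ j, j ≠ i ∧ y j = 0 := fun i hi =>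
    let ⟨j, hj⟩ := exists_ne (⟨i, hi⟩ : {i // y i = 0})
    ⟨j.1, fun a => hj (Subtype.ext a), j.2⟩
  obtain ⟨⟨i₀, h0⟩⟩ : Nonempty {i // y i = 0} := inferInstance
  refine .inr fun f χ _ _ hC hN w c w' c' h h' => ?_
  have h4 : (pZ κ (Jf D.R) y).Nonempty := by
    obtain ⟨i₁, e1, h1⟩ := h2 i₀ h0
    obtain ⟨a, ha, -, e2⟩ := hA.1.mem_sub (y := y) (long_mem (κ := κ) e1 1 1)
      (by rw [add_dotProduct, uv_dot, uv_dot, h0, h1, mul_zero, add_zero])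
    refine ⟨a, ha, fun i hi => ?_⟩
    rw [e2]
    change (uv i₁ 1 + uv i₀ 1) i = 0
    rw [Pi.add_apply, uv_apply, uv_apply, if_neg (fun a : i = i₁ => hi (a ▸ h1)), if_neg (fun a : i = i₀ => hi (a ▸ h0)),
      add_zero]
  obtain ⟨A, hA', h5⟩ := hC _ _ (e ▸ dec hA.1 hA.2.1 (e ▸ hS.nm') h2) h4 (ex_A hE hA.1) w c w' c' h h'
  have h6 := nc_of hS hA h.fx (hN w c h)
  have h7 := nc_of hS hA h'.fx (hN w' c' h')
  rw [e] at h6 h7
  change Rl _ (rts D) c c'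
  rw [e]
  exact rl_of hA.1 h2 h0 h6 h7 hA' h5

theorem tri (hL : BoxLF) (hp : p ≠ 2) : AllD p fun D => ∀ j B, St D j B → (L κ Jf).adm (rts D) B → Tri D (L κ Jf) B := by
  intro k _ _ _ Y _ N _ _ ρ F G D _ j B hS hA
  refine ⟨fun c c' h _ _ => h.2.1, fun w c hc hg σ hσ h => .inl (by_contra fun h1 => hg ?_), fun w c hc hg => ?_⟩
  · obtain ⟨⟨A, hA', e⟩, -⟩ := h
    rw [fix_of (nc_of hS hA hc h1) hA'] at e
    obtain ⟨l, hl, h2⟩ := fo_of_fx hc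
    obtain ⟨a, m, hm, rfl⟩ := Nat.exists_eq_two_pow_mul_odd (n := l) (fun e => hl (e ▸ dvd_zero p))
    refine gd_of_bb hA.1 hm fun i => ?_
    rcases ph_eq.1 (hA.1.yv_inj e i) with h3 | h3
    · exact sg_pow_eq hσ (by rw [← bb_gal, ← h3]) a (by rw [← bb_pow, h2, bb_eq, map_one])
    · rw [pow_mul, h3.1, one_pow]
  · exact (em _).imp_right fun h1 => hL p hp D j B hS n κ _ hA w c hc hg (nc_of hS hA hc h1)

/-- **the family statement** -/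
theorem fm_of (hE : BoxEx) (hL : BoxLF) (hp : p ≠ 2) : Fm p (L κ Jf) :=
  ⟨ok, b1 hE, tri hL hp, fun _ _ _ _ _ _ _ _ _ _ _ _ _ _ h => h.elim⟩

theorem top_of' (hE : BoxEx) (hL : BoxLF) (h : Pk) : Top := top_of h fun _ _ hp _ _ _ => fm_of hE hL hp

end Cfsg.Agent.HZ.L.CL
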