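import Cfsg.Agent.HZ.L.CL.Defs

/-!
# HZ/L, the symplectic and the spin groups: isolated `2`-elements (helper70)

* `boxLF : BoxLF`.
-/

set_option autoImplicit false
set_option linter.unusedSectionVars false

namespace Cfsg.Agent.HZ.L.CL

open Cfsg Cfsg.Agent.DL Cfsg.Agent.DL.PP Matrix Cfsg.Agent.KZ.Lie

namespace Lf

variable {n : ℕ} {R : Type} [Fintype R] [DecidableEq R] {κ : Kd} {J : Matrix (Fin n) R ℤ} {y : Fin n → ℤ} {c : Lb R}

theorem mul_Hm (h : Lat κ J) : J * Hm J = (2 : ℤ) • (1 : Matrix (Fin n) (Fin n) ℤ) := by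
  ext a i
  have h2 : J *ᵥ Function.invFun J.mulVec (Pi.single i 2) = Pi.single i 2 := Function.invFun_eq (h.even _ (by simp))
  refine (congrFun h2 a).trans ?_
  rw [Matrix.smul_apply, one_apply, Pi.single_apply]
  split_ifs <;> rfl

theorem JH (h : Lat κ J) (g : Fin n → ℤ) : J *ᵥ (Hm J *ᵥ g) = (2 : ℤ) • g := by
  rw [mulVec_mulVec, mul_Hm h, smul_mulVec, one_mulVec]

theorem ext (h : Lat κ J) {u v : Vec R} (e : J *ᵥ u = J *ᵥ v) : u = v :=
  sub_eq_zero.1 (h.inj _ (by rw [mulVec_sub, e, sub_self]))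

theorem HJ (h : Lat κ J) (v : Vec R) : Hm J *ᵥ (J *ᵥ v) = (2 : ℤ) • v := ext h (by rw [JH h, mulVec_smul])

theorem uv_dot (i : Fin n) (s : ℤˣ) (g : Fin n → ℤ) : uv i s ⬝ᵥ g = s * g i := single_dotProduct _ _ _

theorem uv_self (i : Fin n) (s : ℤˣ) : uv i s i = s := Pi.single_eq_same _ _

theorem uv_ne {i j : Fin n} (h : j ≠ i) (s : ℤˣ) : uv i s j = 0 := Pi.single_eq_of_ne h _

theorem sq (s : ℤˣ) : (s : ℤ) * s = 1 := Int.units_coe_mul_self s

theorem sp_mul {A A' : Mat R} (h : SP J A) (h' : SP J A') : SP J (A * A') := by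
  obtain ⟨π, s, h⟩ := h
  obtain ⟨π', s', h'⟩ := h'
  exact ⟨π * π', fun i => s (π' i) * s' i, fun v i => by
    rw [← mulVec_mulVec, Equiv.Perm.mul_apply, h, h', Units.val_mul, mul_assoc]⟩

theorem sp_rfm {a : Vec R × Vec R} (ha : a ∈ sub κ J y) : SP J (rfm a) := by
  obtain ⟨r, ⟨hr, -⟩, e, e'⟩ := ha
  have h1 : ∀ v k, (J *ᵥ (rfm a *ᵥ v)) k = (J *ᵥ v) k - (r.1 ⬝ᵥ (J *ᵥ v)) * r.2 k := fun v k => by
    rw [rfm, sub_mulVec, one_mulVec, mulVec_sub, vecMulVec_mulVec, op_smul_eq_smul, mulVec_smul, e', e,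
      dotProduct_mulVec]
    rfl
  rcases hr with ⟨i, j, s, t, hij, rfl⟩ | ⟨i, s, ⟨-, rfl⟩ | ⟨-, rfl⟩⟩
  · refine ⟨Equiv.swap i j, fun k => if k = i ∨ k = j then -(s * t) else 1, fun v k => ?_⟩
    dsimp only at h1 ⊢
    rw [h1, add_dotProduct, uv_dot, uv_dot, Pi.add_apply]
    by_cases a1 : k = i
    · rw [if_pos (Or.inl a1), a1, Equiv.swap_apply_left, uv_self, uv_ne hij.symm, Units.val_neg, Units.val_mul]
      linear_combination -(J *ᵥ v) j * sq t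
    by_cases a2 : k = j
    · rw [if_pos (Or.inr a2), a2, Equiv.swap_apply_right, uv_self, uv_ne hij, Units.val_neg, Units.val_mul]
      linear_combination -(J *ᵥ v) i * sq s
    · rw [if_neg (not_or.2 ⟨a1, a2⟩), Equiv.swap_apply_of_ne_of_ne a1 a2, uv_ne a1, uv_ne a2, Units.val_one]
      ring
  · refine ⟨1, fun k => if k = i then -1 else 1, fun v k => ?_⟩
    dsimp only at h1 ⊢
    rw [h1, uv_dot, Equiv.Perm.one_apply, Pi.smul_apply, smul_eq_mul]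
    by_cases a1 : k = i
    · rw [if_pos a1, a1, uv_self, Units.val_neg, Units.val_one]
      linear_combination -2 * (J *ᵥ v) i * sq s
    · rw [if_neg a1, uv_ne a1, Units.val_one]
      ring
  · refine ⟨1, fun k => if k = i then -1 else 1, fun v k => ?_⟩
    dsimp only at h1 ⊢
    rw [h1, smul_dotProduct, uv_dot, Equiv.Perm.one_apply, smul_eq_mul]
    by_cases a1 : k = i
    · rw [if_pos a1, a1, uv_self, Units.val_neg, Units.val_one]
      linear_combination -2 * (J *ᵥ v) i * sq s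
    · rw [if_neg a1, uv_ne a1, Units.val_one]
      ring

theorem sp_WW {A : Mat R} (hA : A ∈ WW (sub κ J y)) : SP J A := by
  induction hA using Submonoid.closure_induction with
  | mem x hx =>
    obtain ⟨a, ha, rfl⟩ := hx
    exact sp_rfm ha
  | one => exact ⟨1, 1, fun v i => by rw [one_mulVec, Pi.one_apply, Units.val_one, one_mul]; rfl⟩
  | mul x y _ _ hx hy => exact sp_mul hx hy

theorem perp_of {Ψ : RS R} {B : Mat R} (h : Nm B Ψ) (k : ℕ) {u : Vec R} (hu : Perp Ψ (B ^ k *ᵥ u)) : Perp Ψ u := by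
  induction k with
  | zero => rwa [pow_zero, one_mulVec] at hu
  | succ k ih =>
    refine ih fun a ha => ?_
    obtain ⟨b, hb, -, e⟩ := h a ha
    rw [← e, ← dotProduct_mulVec, mulVec_mulVec, ← pow_succ']
    exact hu b hb

theorem nc_dot (h : Lat κ J) (hN : NC (sub κ J y) J c) {r : Vec (Fin n) × Vec (Fin n)} (hr : r ∈ full κ n)
    (h0 : r.1 ⬝ᵥ y = 0) : ∑ i, (r.1 i : ℂ) * ph (bb J c i) = 0 := by
  obtain ⟨v, hv⟩ := h.cor r hr
  have h1 := hN (r.1 ᵥ* J, v) ⟨r, ⟨hr, h0⟩, rfl, hv⟩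
  have h2 : (fun i => ((r.1 ᵥ* J) i : ℂ)) ᵥ* (Hm J).map (Int.cast : ℤ → ℂ) = fun i => 2 * (r.1 i : ℂ) := funext fun i => by
    have h3 := RingHom.map_vecMul (Int.castRingHom ℂ) (Hm J) (r.1 ᵥ* J) i
    rw [vecMul_vecMul, mul_Hm h, vecMul_smul, vecMul_one] at h3
    exact h3.symm.trans (by simp)
  rw [ev, yv, dotProduct_mulVec, h2, dotProduct] at h1
  simp only [mul_assoc, ← Finset.mul_sum] at h1
  exact (mul_eq_zero.1 h1).resolve_left two_ne_zero

theorem sum_uv (i : Fin n) (s : ℤˣ) (φ : Fin n → ℂ) : ∑ k, (uv i s k : ℂ) * φ k = ((s : ℤ) : ℂ) * φ i := by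
  rw [Finset.sum_eq_single i (fun k _ e => by rw [uv_ne e, Int.cast_zero, zero_mul]) fun e => (e (Finset.mem_univ _)).elim,
    uv_self]

theorem sq_of_ph {t : ℂˣ} {s : ℤˣ} (h : ((s : ℤ) : ℂ) * ph t = 0) : t ^ 2 = 1 := by
  have h1 := (mul_eq_zero.1 h).resolve_left (Int.cast_ne_zero.2 s.ne_zero)
  refine Units.ext ?_
  rw [Units.val_pow_eq_pow_val, Units.val_one]
  rcases div_eq_zero_iff.1 h1 with e | e
  · linear_combination ((t : ℂ) + 1) * e
  · linear_combination ((t : ℂ) - 1) * e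

theorem cases_ab (h : Lat κ J) (hN : NC (sub κ J y) J c) : (∃ i, bb J c i ^ 2 = 1) ∨ ∃ σ : Fin n → ℤˣ,
    ∀ r ∈ lev (full κ n) y, ∃ (i j : Fin n) (s t : ℤˣ), r.1 = uv i s + uv j t ∧ (s : ℤ) * σ i + t * σ j = 0 := by
  refine or_iff_not_imp_left.2 fun hc => ⟨fun i => if 0 ≤ y i then 1 else -1, fun r ⟨hr, h0⟩ => ?_⟩
  have h1 := nc_dot h hN hr h0
  rcases hr with ⟨i, j, s, t, hij, rfl⟩ | ⟨i, s, ⟨-, rfl⟩ | ⟨-, rfl⟩⟩
  · refine ⟨i, j, s, t, rfl, ?_⟩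
    dsimp only at h0 h1 ⊢
    rw [add_dotProduct, uv_dot, uv_dot] at h0
    by_cases e : y i = 0
    · have e' : y j = 0 := by
        rw [e, mul_zero, zero_add] at h0
        exact (mul_eq_zero.1 h0).resolve_left t.ne_zero
      have h2 := nc_dot h hN (r := (uv i s + uv j (-t), uv i s + uv j (-t))) (Or.inl ⟨i, j, s, -t, hij, rfl⟩)
        (by rw [add_dotProduct, uv_dot, uv_dot, e, e', mul_zero, mul_zero, add_zero])
      simp only [Pi.add_apply, Int.cast_add, add_mul, Finset.sum_add_distrib, sum_uv, Units.val_neg, Int.cast_neg] at h1 h2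
      exact (hc ⟨i, sq_of_ph (s := s) (by linear_combination (1 / 2 : ℂ) * h1 + (1 / 2 : ℂ) * h2)⟩).elim
    · rcases Int.units_eq_one_or s with rfl | rfl <;> rcases Int.units_eq_one_or t with rfl | rfl <;>
        split_ifs <;> simp only [Units.val_one, Units.val_neg] at h0 ⊢ <;> omega
  · exact (hc ⟨i, sq_of_ph (s := s) (by rwa [sum_uv] at h1)⟩).elim
  · simp only [Pi.smul_apply, smul_eq_mul, Int.cast_mul, mul_assoc, ← Finset.mul_sum, sum_uv] at h1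
    exact (hc ⟨i, sq_of_ph (s := s) ((mul_eq_zero.1 h1).resolve_left (by norm_num))⟩).elim

theorem chr_pow {m : ℕ} (h : c ^ m = 1) (v : Vec R) : chr ((m : ℤ) • v) c = 1 := by
  rw [chr_zsmul, zpow_natCast, ← map_pow, h, map_one]

theorem bb_pow (h : Lat κ J) {m : ℕ} (hm : c ^ (4 * m) = 1) {i : Fin n} (hi : bb J c i ^ 2 = 1) :
    bb J c ^ (2 * m) = 1 := funext fun j => by
  obtain ⟨v, hv⟩ := h.even (Pi.single i 1 + Pi.single j 1) (by simp [Finset.sum_add_distrib])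
  have h1 : bb J c i * bb J c j = chr ((2 : ℤ) • v) c := by
    rw [← HJ h, hv, ← chr_pl, chr_add, chr_single, chr_single]
    rfl
  have h2 : (bb J c i * bb J c j) ^ (2 * m) = 1 := by
    rw [h1, ← zpow_natCast, ← chr_zsmul, smul_smul, ← chr_pow hm v]
    congr 2
    push_cast
    ring
  rwa [mul_pow, pow_mul, hi, one_pow, one_mul] at h2

theorem exists_f {N : ℤ} (hN : 0 < N) :
    ∃ f : ℤ → ℤ, ∀ a, (N ∣ 2 * a → f a = 0) ∧ (¬ N ∣ 2 * a → N ∣ a - f a) ∧ |2 * f a| < N := by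
  refine ⟨fun a => if N ∣ 2 * a then 0 else if 2 * (a % N) < N then a % N else a % N - N, fun a => ?_⟩
  have h1 := Int.emod_nonneg a hN.ne'
  have h2 := Int.emod_lt_of_pos a hN
  have h3 : N ∣ a - a % N := Int.dvd_self_sub_emod
  refine ⟨fun h => if_pos h, fun h => ?_, ?_⟩
  · simp only [if_neg h]
    split_ifs
    · exact h3
    · rw [show a - (a % N - N) = a - a % N + N by ring]
      exact h3.add dvd_rfl
  · beta_reduce
    split_ifs with a1 a2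
    · rwa [mul_zero, abs_zero]
    · rwa [abs_of_nonneg (by omega)]
    · have h4 : 2 * (a % N) ≠ N := fun e => a1 (by
        rw [show 2 * a = 2 * (a - a % N) + 2 * (a % N) by ring, e]
        exact (h3.mul_left 2).add dvd_rfl)
      rw [abs_lt]
      omega

/-- the two claims from a central vector `g₀` -/
theorem step (h : Lat κ J) {Ψ : RS R} {M w w' : Mat R} (hw : w ∈ WW Ψ) (hw' : w' ∈ WW Ψ)
    (hM : ∀ v, Perp Ψ v → Perp Ψ (M *ᵥ v)) (hF : Tl (w * M) c c) {m : ℕ} (hm : Odd m) (hc : c ^ (4 * m) = 1) {e : ℕ}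
    {x u : Vec R} (hu : (w' * M - 1) *ᵥ x = (2 : ℤ) ^ e • u) {g k : Fin n → ℤ} (hg : Perp Ψ (Hm J *ᵥ g))
    (hk : (2 : ℤ) ^ e • k = (2 : ℤ) • (J *ᵥ x - g)) (hz : chr ((w' * M - 1) *ᵥ (Hm J *ᵥ k)) c ^ m = 1) :
    (∀ a ∈ Ψ, (2 : ℤ) ^ e ∣ 4 * (a.1 ⬝ᵥ x)) ∧ ∀ v, (w * M - 1) *ᵥ ((4 : ℤ) • x) = ((2 : ℤ) ^ e) • v → chr v c = 1 := by
  have h1 : (4 : ℤ) • x = (2 : ℤ) • (Hm J *ᵥ g) + (2 : ℤ) ^ e • (Hm J *ᵥ k) := ext h (by
    rw [mulVec_add, mulVec_smul, mulVec_smul, mulVec_smul, JH h, JH h, smul_comm _ (2 : ℤ) k, hk]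
    module)
  have h2 : ∀ v, chr ((w * M - 1) *ᵥ v) c = 1 := fun v => by rw [sub_mulVec, one_mulVec, chr_sub, hF, mul_inv_cancel]
  refine ⟨fun a ha => ⟨a.1 ⬝ᵥ (Hm J *ᵥ k), ?_⟩, fun v hv => ?_⟩
  · have h3 := congrArg (a.1 ⬝ᵥ ·) h1
    simpa only [dotProduct_add, dotProduct_smul, hg a ha, smul_eq_mul, mul_zero, zero_add] using h3
  have h3 : (w * M - 1) *ᵥ (Hm J *ᵥ g) = (w' * M - 1) *ᵥ (Hm J *ᵥ g) := by
    rw [sub_mulVec, sub_mulVec, ← mulVec_mulVec, ← mulVec_mulVec, (hM _ hg).fix hw, (hM _ hg).fix hw']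
  have h4 : v = (w * M - 1) *ᵥ (Hm J *ᵥ k) + (4 : ℤ) • u - (w' * M - 1) *ᵥ (Hm J *ᵥ k) := by
    refine smul_right_injective _ (pow_ne_zero e (two_ne_zero (α := ℤ))) ?_
    have h5 := congrArg ((w' * M - 1) *ᵥ ·) h1
    simp only [mulVec_add, mulVec_smul, hu] at h5
    rw [h1, mulVec_add, mulVec_smul, mulVec_smul, h3] at hv
    show (2 : ℤ) ^ e • v = (2 : ℤ) ^ e • _
    rw [← hv, ← sub_eq_iff_eq_add.2 h5]
    module
  have h5 : chr v c ^ m = 1 := by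
    rw [h4, chr_sub, chr_add, h2, one_mul, mul_pow, inv_pow, hz, inv_one, mul_one, ← zpow_natCast, ← chr_zsmul,
      smul_smul, ← chr_pow hc u]
    congr 2
    push_cast
    ring
  have h6 : chr v c ^ 2 ^ e = 1 := by
    rw [← zpow_natCast, ← chr_zsmul, Nat.cast_pow, Nat.cast_ofNat, ← hv, h2]
  have h7 := pow_gcd_eq_one.2 ⟨h5, h6⟩
  rwa [(Nat.Coprime.pow_right e (Nat.coprime_two_right.2 hm)).gcd_eq_one, pow_one] at h7

theorem core (h : Lat κ J) {B w : Mat R} (hB : SP J B) (hM : ∀ v, Perp (sub κ J y) v → Perp (sub κ J y) (B *ᵥ v))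
    (hw : w ∈ WW (sub κ J y)) {q : ℤ} (hq : Odd q) (hF : Tl (w * q • B) c c) (hG : Gd c) (hN : NC (sub κ J y) J c) :
    LF (sub κ J y) (q • B) w c := by
  intro w' hw' e x hx hI
  obtain ⟨m, hm, hc⟩ := hG
  choose u hu using hx
  have hu' : (w' * q • B - 1) *ᵥ x = (2 : ℤ) ^ e • u := funext hu
  have hM' : ∀ v, Perp (sub κ J y) v → Perp (sub κ J y) ((q • B) *ᵥ v) := fun v hv a ha => by
    rw [smul_mulVec, dotProduct_smul, hM v hv a ha, smul_zero]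
  obtain ⟨π, s, hP⟩ := sp_mul (sp_WW hw') hB
  have h0 : ∀ v i, (J *ᵥ ((w' * q • B - 1) *ᵥ v)) (π i) = q * (s i * (J *ᵥ v) i) - (J *ᵥ v) (π i) := fun v i => by
    rw [sub_mulVec, one_mulVec, mulVec_sub, Matrix.mul_smul, smul_mulVec, mulVec_smul, Pi.sub_apply, Pi.smul_apply, hP,
      smul_eq_mul]
  have h1 : ∀ i, 2 ^ e * (J *ᵥ u) (π i) = q * (s i * (J *ᵥ x) i) - (J *ᵥ x) (π i) := fun i => by
    rw [← h0, hu', mulVec_smul]
    rfl
  have h2 : ∀ k g : Fin n → ℤ, (∀ i, q * (s i * k i) - k (π i) = 2 * g (π i)) →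
      (w' * q • B - 1) *ᵥ (Hm J *ᵥ k) = Hm J *ᵥ ((2 : ℤ) • g) := fun k g hk => ext h (funext fun i => by
    obtain ⟨i, rfl⟩ := π.surjective i
    rw [h0, JH h, JH h]
    simp only [Pi.smul_apply, smul_eq_mul]
    linear_combination 2 * hk i)
  have h3 : ∀ g : Fin n → ℤ, (∀ r ∈ lev (full κ n) y, (2 : ℤ) ^ e ∣ r.1 ⬝ᵥ (J *ᵥ x) → r.1 ⬝ᵥ g = 0) →
      Perp (sub κ J y) (Hm J *ᵥ g) := fun g hg => hI _ fun a ⟨r, hr, e₁, _⟩ ha => by
    rw [e₁, ← dotProduct_mulVec] at ha ⊢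
    rw [JH h, dotProduct_smul, hg r hr ha, smul_zero]
  have hN0 : (0 : ℤ) < 2 ^ e := pow_pos two_pos e
  rcases cases_ab h hN with ⟨i₀, hi₀⟩ | ⟨σ, hσ⟩
  · obtain ⟨f, hf⟩ := exists_f hN0
    have a1 : ∀ a, (2 : ℤ) ^ e ∣ 2 * (a - f a) := fun a => by
      by_cases e' : (2 : ℤ) ^ e ∣ 2 * a
      · rwa [(hf a).1 e', sub_zero]
      · exact ((hf a).2.1 e').mul_left 2
    have a2 : ∀ (a b t : ℤ), Odd t → (2 : ℤ) ^ e ∣ t * a - b → (2 : ℤ) ^ e ∣ t * f a - f b := fun a b t ht hd => by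
      have b1 : (2 : ℤ) ^ e ∣ 2 * a ↔ (2 : ℤ) ^ e ∣ 2 * b := by
        have b2 : IsCoprime ((2 : ℤ) ^ e) t := (Int.isCoprime_two_left.2 ht).pow_left
        refine ⟨fun b3 => ?_, fun b3 => b2.dvd_of_dvd_mul_left ?_⟩
        · rw [show 2 * b = t * (2 * a) - 2 * (t * a - b) by ring]
          exact (b3.mul_left t).sub (hd.mul_left 2)
        · rw [show t * (2 * a) = 2 * b + 2 * (t * a - b) by ring]
          exact b3.add (hd.mul_left 2)
      by_cases e' : (2 : ℤ) ^ e ∣ 2 * a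
      · rw [(hf a).1 e', (hf b).1 (b1.1 e'), mul_zero, sub_zero]
        exact dvd_zero _
      · rw [show t * f a - f b = t * a - b - t * (a - f a) + (b - f b) by ring]
        exact (hd.sub (((hf a).2.1 e').mul_left t)).add ((hf b).2.1 (mt b1.2 e'))
    choose k hk using fun i => a1 ((J *ᵥ x) i)
    have a3 : ∀ s : ℤˣ, Odd (s : ℤ) := fun s => by rcases Int.units_eq_one_or s with rfl | rfl <;> decide
    choose g hg using fun i => a2 ((J *ᵥ x) i) ((J *ᵥ x) (π i)) (q * s i) (hq.mul (a3 _)) ⟨_, by rw [mul_assoc, ← h1]⟩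
    refine step h hw hw' hM' hF hm hc hu' (g := fun i => f ((J *ᵥ x) i)) (k := k) (h3 _ ?_)
      (funext fun i => (hk i).symm) ?_
    · rintro r ⟨⟨i, j, s, t, -, rfl⟩ | ⟨i, s, ⟨-, rfl⟩ | ⟨-, rfl⟩⟩, -⟩ hd
      · rw [add_dotProduct, uv_dot, uv_dot] at hd ⊢
        have b1 := a2 ((J *ᵥ x) i) ((J *ᵥ x) j) (-(s * t)) ((a3 s).mul (a3 t)).neg (by
          rw [show -((s : ℤ) * t) * (J *ᵥ x) i - (J *ᵥ x) j = -t * (s * (J *ᵥ x) i + t * (J *ᵥ x) j) by
            linear_combination (J *ᵥ x) j * sq t]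
          exact hd.mul_left _)
        have b2 := abs_lt.1 (hf ((J *ᵥ x) i)).2.2
        have b3 := abs_lt.1 (hf ((J *ᵥ x) j)).2.2
        have b4 := Int.eq_zero_of_abs_lt_dvd b1 (by
          rcases Int.units_eq_one_or s with rfl | rfl <;> rcases Int.units_eq_one_or t with rfl | rfl <;>
            simp only [Units.val_one, Units.val_neg, abs_lt] <;> omega)
        linear_combination -(t : ℤ) * b4 - s * f ((J *ᵥ x) i) * sq t
      · rw [uv_dot] at hd ⊢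
        rw [(hf _).1 ((Units.dvd_mul_left.1 hd).mul_left 2), mul_zero]
      · rw [smul_dotProduct, uv_dot, smul_eq_mul] at hd ⊢
        rw [mul_left_comm] at hd
        rw [(hf _).1 (Units.dvd_mul_left.1 hd), mul_zero, mul_zero]
    · rw [h2 k (fun i => (J *ᵥ u) i - g (π.symm i)) fun i => mul_left_cancel₀ hN0.ne' (by
        rw [Equiv.symm_apply_apply]
        linear_combination -2 * h1 i - 2 * hg i - q * s i * hk i + hk (π i)), ← chr_pl, ← zpow_natCast, ← chr_zsmul,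
        smul_smul, ← chr_pow (bb_pow h hc hi₀)]
      congr 2
      push_cast
      ring
  · have a1 : ∀ i, (2 : ℤ) ^ e ∣ (J *ᵥ x) i - σ i * ((σ i * (J *ᵥ x) i) % 2 ^ e) := fun i => by
      rw [show (J *ᵥ x) i - σ i * ((σ i * (J *ᵥ x) i) % 2 ^ e) =
        σ i * (σ i * (J *ᵥ x) i - (σ i * (J *ᵥ x) i) % 2 ^ e) by linear_combination -(J *ᵥ x) i * sq (σ i)]
      exact Int.dvd_self_sub_emod.mul_left _
    choose k hk using a1
    obtain ⟨v, hv⟩ := h.even (fun i => q * (s (π.symm i) * k (π.symm i)) - k i) (by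
      rw [Finset.sum_sub_distrib, ← Equiv.sum_comp π, ← Finset.sum_sub_distrib]
      refine Finset.even_sum _ fun i _ => ?_
      rw [Equiv.symm_apply_apply, ← mul_assoc, ← sub_one_mul]
      refine (Odd.sub_odd (hq.mul ?_) odd_one).mul_right _
      rcases Int.units_eq_one_or (s i) with e' | e' <;> rw [e'] <;> decide)
    refine step h hw hw' hM' hF hm hc hu' (g := fun i => σ i * ((σ i * (J *ᵥ x) i) % 2 ^ e)) (k := (2 : ℤ) • k) (h3 _ ?_)
      (by rw [smul_comm]; exact congrArg _ (funext fun i => (hk i).symm)) ?_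
    · intro r hr hd
      obtain ⟨i, j, s, t, e₁, e₂⟩ := hσ r hr
      rw [e₁, add_dotProduct, uv_dot, uv_dot] at hd ⊢
      have b1 : (σ i * (J *ᵥ x) i) % 2 ^ e = (σ j * (J *ᵥ x) j) % 2 ^ e := Int.emod_eq_emod_iff_emod_sub_eq_zero.2 <| Int.emod_eq_zero_of_dvd (by
        rw [show σ i * (J *ᵥ x) i - σ j * (J *ᵥ x) j = s * σ i * (s * (J *ᵥ x) i + t * (J *ᵥ x) j) by
          linear_combination -(σ i * (J *ᵥ x) i) * sq s - t * (J *ᵥ x) j * e₂ + σ j * (J *ᵥ x) j * sq t]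
        exact hd.mul_left _)
      rw [b1]
      linear_combination (σ j * (J *ᵥ x) j) % 2 ^ e * e₂
    · rw [h2 _ (J *ᵥ v) fun i => by
        rw [hv]
        dsimp only
        rw [Equiv.symm_apply_apply, Pi.smul_apply, Pi.smul_apply, smul_eq_mul, smul_eq_mul]
        ring, mulVec_smul, HJ h, ← zpow_natCast, ← chr_zsmul, smul_smul, smul_smul, ← chr_pow hc v]
      congr 2
      push_cast
      ring

end Lf

/-- **isolated `2`-elements** -/
theorem boxLF : BoxLF := by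
  intro p _ hp k _ _ _ Y _ N _ _ ρ F G D _ j B hS n κ J ⟨hL, hB, y, e⟩ w c hF hG hN
  obtain ⟨m, hm, h1⟩ := hS.fin
  have h2 := hS.nm'
  have h3 := Wm_mem w
  rw [fx_iff, hS.mx] at hF
  rw [e] at h2 h3 hN ⊢
  rw [hS.mx]
  refine Lf.core hL hB (fun v hv => Lf.perp_of h2 (m - 1) ?_) h3 (Odd.pow ?_) hF hG hN
  · rwa [mulVec_mulVec, ← pow_succ, Nat.sub_add_cancel hm, h1, one_mulVec]
  · exact_mod_cast (Fact.out : p.Prime).odd_of_ne_two hp

end Cfsg.Agent.HZ.L.CL
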