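import Cfsg.Agent.HZ.L.CL.Defs
import Cfsg.Agent.HZ.Red.Ind
import Cfsg.Agent.KZ.Dat.SpD
import Cfsg.Agent.H95.StemCover
import Cfsg.Agent.S0269
import Cfsg.Agent.S2092

/-!
# HZ/L, the row of the symplectic groups (helper97)

* `SpR.hh_quot` : `HH` passes to central quotients;
* `SpR.rtsC`, `SpR.admC`, `SpR.stC` : the datum of `Sp_(2m)` is admissible;
* `rowPsp_of`.
-/

set_option autoImplicit false
set_option linter.unusedSectionVars false

namespace Cfsg.Agent.HZ.L.CL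

open Cfsg Cfsg.Agent.DL Cfsg.Agent.DL.PP Matrix Cfsg.Agent.KZ.Lie Cfsg.Agent.KZ.Dat Cfsg.Agent.Nodes.TypeC
  Cfsg.Agent.ODD Cfsg.Agent.ODD.Red Subgroup

namespace SpR

section quot

variable {M : Ideal AlgInt} {Γ X : Type} [Group Γ] [Finite Γ] [Group X] {φ : Γ →* X}

/-- the class of an element of odd order grows by an odd factor in a central extension -/
theorem idx_lift (hs : Function.Surjective φ) (hk : φ.ker ≤ center Γ) {y : Γ} (ho : Odd (orderOf y)) :
    (centralizer ({y} : Set Γ)).index.factorization 2 ≤ (centralizer ({φ y} : Set X)).index.factorization 2 := by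
  have : Fact (Nat.Prime 2) := ⟨Nat.prime_two⟩
  let H : Subgroup Γ := (centralizer ({φ y} : Set X)).comap φ
  have hz : ∀ g : H, (g : Γ) * y * (g : Γ)⁻¹ * y⁻¹ ∈ center Γ := fun g => hk (by
    have h1 : φ g * φ y = φ y * φ g := mem_centralizer_singleton_iff.1 g.2
    rw [MonoidHom.mem_ker, map_mul, map_mul, map_mul, map_inv, map_inv, h1]
    group)
  let c : H →* center Γ := MonoidHom.mk' (fun g => ⟨_, hz g⟩) fun g h => Subtype.ext (by
    have h1 := mem_center_iff.1 (hz h)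
    show ((g : Γ) * h) * y * ((g : Γ) * h)⁻¹ * y⁻¹ = ((g : Γ) * y * (g : Γ)⁻¹ * y⁻¹) * ((h : Γ) * y * (h : Γ)⁻¹ * y⁻¹)
    calc _ = (g : Γ) * ((h : Γ) * y * (h : Γ)⁻¹ * y⁻¹) * (y * (g : Γ)⁻¹ * y⁻¹) := by group
      _ = (g : Γ) * (y * (g : Γ)⁻¹ * y⁻¹) * ((h : Γ) * y * (h : Γ)⁻¹ * y⁻¹) := by
        rw [mul_assoc (g : Γ), ← h1, ← mul_assoc (g : Γ)]
      _ = _ := by group)
  have hle : centralizer ({y} : Set Γ) ≤ H := fun g hg =>
    mem_centralizer_singleton_iff.2 ((show Commute g y from mem_centralizer_singleton_iff.1 hg).map φ)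
  have hker : c.ker = (centralizer ({y} : Set Γ)).subgroupOf H := by
    ext g
    rw [MonoidHom.mem_ker, mem_subgroupOf, mem_centralizer_singleton_iff, Subtype.ext_iff]
    show (g : Γ) * y * (g : Γ)⁻¹ * y⁻¹ = 1 ↔ _
    rw [mul_inv_eq_one, mul_inv_eq_iff_eq_mul]
  have hodd : ¬ 2 ∣ Nat.card c.range := by
    intro h2
    obtain ⟨⟨_, g, rfl⟩, hz2⟩ := exists_prime_orderOf_dvd_card' 2 h2
    have h3 : ((g : Γ) * y * (g : Γ)⁻¹ * y⁻¹) ^ orderOf y = 1 := by
      have h4 : ((g : Γ) * y * (g : Γ)⁻¹) ^ orderOf y = 1 := by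
        rw [conj_pow, pow_orderOf_eq_one, mul_one, mul_inv_cancel]
      have h5 : Commute ((g : Γ) * y * (g : Γ)⁻¹ * y⁻¹) y := (mem_center_iff.1 (hz g) y).symm
      have h6 := h5.mul_pow (orderOf y)
      rwa [inv_mul_cancel_right, h4, pow_orderOf_eq_one, mul_one, eq_comm] at h6
    refine ho.not_two_dvd_nat ?_
    rw [← hz2]
    exact orderOf_dvd_of_pow_eq_one (Subtype.ext (Subtype.ext h3))
  have h1 := relIndex_mul_index hle
  rw [relIndex, ← hker, index_ker, index_comap_of_surjective _ hs] at h1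
  have h0 : (centralizer ({φ y} : Set X)).index ≠ 0 := by
    rw [← index_comap_of_surjective _ hs]
    exact index_ne_zero_of_finite
  rw [← h1, Nat.factorization_mul Nat.card_pos.ne' h0, Finsupp.add_apply, Nat.factorization_eq_zero_of_not_dvd hodd,
    zero_add]

theorem exists_odd (hs : Function.Surjective φ) {x : X} (ho : Odd (orderOf x)) : ∃ y, φ y = x ∧ Odd (orderOf y) := by
  obtain ⟨y, rfl⟩ := hs x
  obtain ⟨k, m, hm, h⟩ := Nat.exists_eq_two_pow_mul_odd (orderOf_pos y).ne'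
  obtain ⟨t, ht⟩ := exists_pow_eq_self_of_coprime (x := φ y) (n := 2 ^ k)
    (Nat.Coprime.pow_left k (Nat.coprime_two_left.2 ho))
  refine ⟨(y ^ 2 ^ k) ^ t, by rw [map_pow, map_pow, ht], hm.of_dvd_nat (orderOf_dvd_of_pow_eq_one ?_)⟩
  rw [← pow_mul, mul_comm t, pow_mul, ← pow_mul y, ← h, pow_orderOf_eq_one, one_pow]

/-- **`HH` passes to central quotients** -/
theorem hh_quot (hM : IsPModular 2 M) (hs : Function.Surjective φ) (hk : φ.ker ≤ center Γ) (h : HH M Γ) : HH M X := by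
  have : Finite X := Finite.of_surjective φ hs
  intro η hη h0 σ hσ hfix
  obtain ⟨x, ho, hx⟩ := h0.odd hM hη
  obtain ⟨y, rfl, hy⟩ := exists_odd hs ho
  have hχ := isIrr_comp' φ hs hη
  have h1 : H0 M fun g => η (φ g) := ⟨y, good_of_le hM hχ hx.1 ((idx_lift hs hk hy).trans (by
    rw [hx.nu hM hη, charDegree_congr (χ := fun g => η (φ g)) (ψ := η) (by rw [map_one])]))⟩
  intro τ hτ g
  obtain ⟨g, rfl⟩ := hs g
  exact h _ hχ h1 σ hσ (fun g => hfix (φ g)) τ hτ g

end quot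

section dat

variable {n : ℕ} {k : Type} [Field k] {p : ℕ} [Fact p.Prime] [CharP k p] [IsAlgClosed k]
  (hk : ∀ a : k, ∃ j, 0 < j ∧ a ^ p ^ j = a) {e : ℕ} (he : 0 < e)

theorem wt_uv (x : Fin n × Bool) : ∃ s : ℤˣ, wt x = uv x.1 s := by
  obtain ⟨i, _ | _⟩ := x
  · exact ⟨-1, rfl⟩
  · exact ⟨1, rfl⟩

theorem uv_wt (i : Fin n) (s : ℤˣ) : ∃ b, uv i s = wt (i, b) := by
  rcases Int.units_eq_one_or s with rfl | rfl
  · exact ⟨true, rfl⟩
  · exact ⟨false, rfl⟩

theorem sub_one (κ : Kd) : sub κ (1 : Matrix (Fin n) (Fin n) ℤ) 0 = full κ n := by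
  ext a
  refine ⟨fun ⟨r, hr, h1, h2⟩ => ?_, fun h => ⟨a, ⟨h, dotProduct_zero _⟩, (vecMul_one _).symm, one_mulVec _⟩⟩
  rw [vecMul_one] at h1
  rw [one_mulVec] at h2
  rw [Prod.ext h1 h2]
  exact hr.1

theorem rtsC : rts (datC n hk he) = full .C n := by
  ext a
  constructor
  · rintro ⟨b, hb, rfl⟩
    obtain ⟨x, y, hxy, h1⟩ := (rtC_iff hk he).1 hb
    rw [corC hk he hb hxy h1, h1]
    obtain ⟨s, hs⟩ := wt_uv x
    obtain ⟨t, ht⟩ := wt_uv y
    by_cases h : x = y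
    · subst h
      exact Or.inr ⟨x.1, s, Or.inr ⟨rfl, by rw [if_pos rfl, hs, two_smul]; rfl⟩⟩
    · exact Or.inl ⟨x.1, y.1, s, t, hxy.resolve_right h, by rw [if_neg h, hs, ht]; rfl⟩
  · rintro (⟨i, j, s, t, hij, rfl⟩ | ⟨i, s, ⟨h, -⟩ | ⟨-, rfl⟩⟩)
    · obtain ⟨b, hb⟩ := uv_wt i s
      obtain ⟨c, hc⟩ := uv_wt j t
      have h0 : Ok (i, b) (j, c) := Or.inl hij
      obtain ⟨a, ha, h1⟩ := exists_rtC hk he h0
      refine ⟨a, ha, ?_⟩
      rw [corC hk he ha h0 h1, h1, if_neg fun h => hij (congrArg Prod.fst h), hb, hc]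
      rfl
    · cases h
    · obtain ⟨b, hb⟩ := uv_wt i s
      have h0 : Ok (i, b) (i, b) := Or.inr rfl
      obtain ⟨a, ha, h1⟩ := exists_rtC hk he h0
      refine ⟨a, ha, ?_⟩
      rw [corC hk he ha h0 h1, h1, if_pos rfl, hb, two_smul]
      rfl

theorem lat_one : Lat .C (1 : Matrix (Fin n) (Fin n) ℤ) :=
  ⟨fun v h => by rwa [one_mulVec] at h, fun g _ => ⟨g, one_mulVec g⟩, fun r _ => ⟨r.2, one_mulVec _⟩⟩

theorem admC : Adm .C (1 : Matrix (Fin n) (Fin n) ℤ) (rts (datC n hk he)) 1 :=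
  ⟨lat_one, ⟨1, fun _ => 1, fun v i => by simp⟩, 0, (rtsC hk he).trans (sub_one _).symm⟩

theorem stC : St (datC n hk he) e 1 := ⟨he, rfl, datC_qs hk he, ⟨1, one_pos, one_pow 1⟩, fun _ _ => rfl⟩

end dat

/-- the symplectic groups -/
theorem hh_sp (h : Top) {M : Ideal AlgInt} (hM : IsPModular 2 M) (F : Type) [Field F] [Fintype F]
    (hF : Odd (Fintype.card F)) (m : ℕ) : HH M (symplecticGroup (Fin m) F) := by
  obtain ⟨p, hp⟩ := CharP.exists F
  have : Fact p.Prime := ⟨CharP.char_is_prime F p⟩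
  obtain ⟨k, _, _, _, hk, e, he, f, hq⟩ := hasC p F
  have h2 : p ≠ 2 := by
    rintro rfl
    rw [hq] at hF
    exact hF.not_two_dvd_nat (dvd_pow_self 2 he.ne')
  have := (datC m hk he).amb.finite_GF (GC m k)
  have := Fintype.ofFinite (GF (FC m k p e) (GC m k))
  refine hh_quot (φ := (eqvC f hq).symm.toMonoidHom) hM (eqvC f hq).symm.surjective ?_
    (h p h2 (datC m hk he) e 1 (stC hk he) m .C (1 : Matrix (Fin m) (Fin m) ℤ) (admC hk he) M hM)
  rw [(MonoidHom.ker_eq_bot_iff _).2 (eqvC f hq).symm.injective]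
  exact bot_le

end SpR

/-- **the row of the symplectic groups** -/
theorem rowPsp_of (h : Top) : Row PspO := by
  rintro M hM X _ _ hX ⟨F, _, _, m, hF, hm, ⟨e⟩⟩ -
  have h3 : 3 ≤ Fintype.card F := by
    have := Fintype.one_lt_card (α := F)
    obtain ⟨k, hk⟩ := hF
    omega
  have h4 := S0269.result (F := F) m (by omega)
  let σ : symplecticGroup (Fin m) F →* PSp m F := QuotientGroup.mk' _
  have hσ : Function.Surjective σ := QuotientGroup.mk'_surjective _
  have hker : σ.ker = center _ := QuotientGroup.ker_mk' _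
  have : Finite (PSp m F) := Finite.of_surjective σ hσ
  have h5 : commutator (PSp m F) = ⊤ := by
    rw [commutator_def, ← Subgroup.map_top_of_surjective σ hσ, ← Subgroup.map_commutator, ← commutator_def, h4]
  have : NeZero (Nat.gcd 2 (Fintype.card F - 1)) := ⟨Nat.gcd_ne_zero_left two_ne_zero⟩
  obtain ⟨φ, h6, h7⟩ := H95.StemCover.exists_cover' h5 (S2092.result rfl m hm (fun _ => h3) (by omega)) σ
    (H95.StemCover.isStem h4 hσ hker.le) (by
      rw [hker, LieClassical.SympCenter.card_center (by omega), Nat.card_congr Multiplicative.toAdd, Nat.card_zmod])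
    hX.1.commutator_eq_top (e.toMonoidHom.comp (QuotientGroup.mk' _)) (e.surjective.comp (QuotientGroup.mk'_surjective _)) (by
      intro x hx
      rw [MonoidHom.mem_ker, MonoidHom.comp_apply, MulEquiv.coe_toMonoidHom, map_eq_one_iff _ e.injective] at hx
      exact (QuotientGroup.eq_one_iff x).1 hx)
  refine (SpR.hh_quot hM h6 (fun x hx => hker.le ?_) (SpR.hh_sp h hM F hF m)).hf
  rw [MonoidHom.mem_ker, ← h7, MonoidHom.mem_ker.1 hx, map_one]

end Cfsg.Agent.HZ.L.CL
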