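import Cfsg.Agent.HZ.L.CL.Sp
import Cfsg.Agent.HZ.L.CL.Bas
import Cfsg.Agent.HZ.L.Alg
import Cfsg.Agent.HZ.Exc.Main
import Cfsg.Agent.KM.Sc.BD1

/-!
# HZ/L, the rows of the orthogonal groups (helper66)
-/

set_option autoImplicit false
set_option linter.unusedSectionVars false

namespace Cfsg.Agent.HZ.L

open Cfsg Cfsg.Agent.DL Matrix Sum Cfsg.Agent.TwoF.DC Cfsg.Agent.TwoF.DC.TC Cfsg.Agent.TwoF.DC.TBD
  Cfsg.Agent.TwoF.DC.TBD.Cl Cfsg.Agent.KM.BD Cfsg.Agent.KM.Dat Cfsg.Agent.ODD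

/-- a row from a simply connected datum -/
theorem hf_of_sc {p : ℕ} [Fact p.Prime] {k : Type} [Field k] [CharP k p] [IsAlgClosed k] {Y : Type} [Group Y] {N : Type}
    [Fintype N] [DecidableEq N] {ρ : Y →* GL N k} {F : MulAut Y} {G : Subgroup Y} {D : Datum p ρ F G} {S : Type} [Group S]
    (s : KM.Sc D S) {A : Type} [CommGroup A] (hA : HasSchurMultiplier S A) (h1 : ¬ p ∣ Nat.card A) {M : Ideal AlgInt}
    (hM : IsPModular 2 M) (h : HH M ↥(GF F G)) {X : Type} [Group X] [Finite X] (hX : IsQuasisimple X)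
    (e : (X ⧸ Subgroup.center X) ≃* S) : HF M X := by
  have := D.amb.finite_GF G
  have h2 : (e.toMonoidHom.comp (QuotientGroup.mk' _)).ker = Subgroup.center X :=
    (MonoidHom.ker_comp_of_injective _ _ e.injective).trans (QuotientGroup.ker_mk' _)
  obtain ⟨ψ, h3, h4⟩ := s.cov X hX (fun h5 => h1 (h5.trans (h2 ▸ H95.StemCover.card_ker_dvd hA hX.1.commutator_eq_top _
    (e.surjective.comp (QuotientGroup.mk'_surjective _)) h2.le))) e
  refine (CL.SpR.hh_quot hM h3 (fun x hx => s.ker.le ?_) h).hf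
  rw [MonoidHom.mem_ker, ← h4, MonoidHom.mem_ker.1 hx, QuotientGroup.mk_one, map_one]

theorem noncomm_quot {X : Type} [Group X] (hX : IsQuasisimple X) : ¬ IsMulCommutative (X ⧸ Subgroup.center X) := fun h => by
  have := hX.1
  have := hX.2
  exact Group.IsPerfect.not_isMulCommutative (X ⧸ Subgroup.center X) h

namespace CL.Spin

variable {m : ℕ} {Φ : Type} [Fintype Φ] [DecidableEq Φ] (C : CD m Φ) {κ : Kd}

/-- the coordinates of the coroot lattice -/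
def Jc : Matrix (Fin m) (Fin m) ℤ := Matrix.of fun i j => C.X.cv (C.X.zi j) i

theorem Jc_mulVec (v : Fin m → ℤ) : Jc C *ᵥ v = C.X.dual.E v := funext fun i => by
  simp only [Jc, mulVec, dotProduct, of_apply, Euc.E, Finset.sum_apply, Pi.smul_apply, smul_eq_mul, mul_comm]
  rfl

theorem wt_eq (x : Bool × Φ) : C.X.rc.wt x = C.X.rx x ᵥ* Jc C := funext fun i => by
  rw [← dotProduct_single_one (C.X.rc.wt x), wt_dot, ← Jc_mulVec, dotProduct_mulVec, dotProduct_single_one]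

theorem cov_eq (x : Bool × Φ) : Jc C *ᵥ C.X.rc.cov x = C.X.cx x := (Jc_mulVec C _).trans (C.X.E_cov x)

/-- the signed index -/
def sx (i : Fin m) (s : ℤˣ) : II m := if s = 1 then inl i else inr i

theorem wv_sx (i : Fin m) (s : ℤˣ) : wv (sx i s) = uv i s := by
  rcases Int.units_eq_one_or s with rfl | rfl
  · rfl
  · exact (Pi.single_neg _ _).symm

theorem ix_sx (i : Fin m) (s : ℤˣ) : ix (sx i s) = i := by unfold sx; split_ifs <;> rfl

theorem uv_neg (i : Fin m) (s : ℤˣ) : uv i (-s) = -uv i s := Pi.single_neg _ _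

theorem wv_uv (a : II m) : ∃ s, wv a = uv (ix a) s := by
  rcases a with i | i
  exacts [⟨1, rfl⟩, ⟨-1, (uv_neg i 1).symm⟩]

theorem full_neg {r : Vec (Fin m) × Vec (Fin m)} (h : r ∈ full κ m) : (-r.1, -r.2) ∈ full κ m := by
  rcases h with ⟨i, j, s, t, h, rfl⟩ | ⟨i, s, ⟨h, rfl⟩ | ⟨h, rfl⟩⟩
  · exact .inl ⟨i, j, -s, -t, h, by rw [uv_neg, uv_neg, ← neg_add]⟩
  · exact .inr ⟨i, -s, .inl ⟨h, by rw [uv_neg, smul_neg]⟩⟩
  · exact .inr ⟨i, -s, .inr ⟨h, by rw [uv_neg, smul_neg]⟩⟩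

variable (hκ : κ = .B ∧ (∃ b, C.ib b = inl ()) ∨ κ = .D ∧ ∀ b, C.ib b ≠ inl ())
include hκ

theorem mem_full (x : Bool × Φ) : (C.X.rx x, C.X.cx x) ∈ full κ m := by
  have h1 : ∀ b, (C.X.rv b, C.X.cv b) ∈ full κ m := fun b => by
    have h2 := C.pos b
    rw [C.rv_eq, C.cv_eq]
    rcases hb : C.ib b with ⟨⟨⟩⟩ | a
    · exact .inr ⟨C.ia b, 1, .inl ⟨(hκ.resolve_right fun h => h.2 b hb).1, Prod.ext (add_zero _) (by rw [if_pos rfl]; rfl)⟩⟩
    · obtain ⟨s, hs⟩ := wv_uv a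
      rw [hb] at h2
      exact .inl ⟨C.ia b, ix a, 1, s, fun e => h2.ne (congrArg Fin.val e), by rw [if_neg inr_ne_inl, ← hs]; rfl⟩
  obtain ⟨_ | _, b⟩ := x
  exacts [full_neg (h1 b), h1 b]

theorem of_full {r : Vec (Fin m) × Vec (Fin m)} (h : r ∈ full κ m) : ∃ x, (C.X.rx x, C.X.cx x) = r := by
  have h1 : ∀ (i j : Fin m) (t : ℤˣ), i < j → ∃ b, C.X.rv b = uv i 1 + uv j t ∧ C.X.cv b = uv i 1 + uv j t := fun i j t h => by
    obtain ⟨b, h2, h3⟩ := C.ex i (inr (sx j t)) (by show _ < (ix _).1; rwa [ix_sx]) fun e => (inr_ne_inl e).elim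
    exact ⟨b, by rw [C.rv_eq, C.cv_eq, h2, h3, if_neg inr_ne_inl, ← wv_sx j]; exact ⟨rfl, rfl⟩⟩
  have h2 : ∀ (i j : Fin m) (s t : ℤˣ), i < j → ∃ x, (C.X.rx x, C.X.cx x) = (uv i s + uv j t, uv i s + uv j t) :=
    fun i j s t h => by
      rcases Int.units_eq_one_or s with rfl | rfl
      · obtain ⟨b, h3, h4⟩ := h1 i j t h
        exact ⟨(true, b), Prod.ext h3 h4⟩
      · obtain ⟨b, h3, h4⟩ := h1 i j (-t) h
        exact ⟨(false, b), by rw [Euc.rx_false, Euc.cx_false, h3, h4, uv_neg, uv_neg, neg_add, neg_neg]⟩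
  rcases h with ⟨i, j, s, t, h, rfl⟩ | ⟨i, s, ⟨h, rfl⟩ | ⟨h, rfl⟩⟩
  · rcases lt_or_gt_of_ne h with h | h
    · exact h2 i j s t h
    · exact add_comm (uv i s) _ ▸ h2 j i t s h
  · obtain ⟨b, h3, h4⟩ := C.ex i (inl ()) i.2 fun _ => (hκ.resolve_right fun e => nomatch h.symm.trans e.1).2
    have h5 : C.X.rv b = uv i 1 := by rw [C.rv_eq, h3, h4]; exact add_zero _
    have h6 : C.X.cv b = (2 : ℤ) • uv i 1 := by rw [C.cv_eq, h3, if_pos h4]; rfl
    rcases Int.units_eq_one_or s with rfl | rfl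
    · exact ⟨(true, b), Prod.ext h5 h6⟩
    · exact ⟨(false, b), by rw [Euc.rx_false, Euc.cx_false, h5, h6, uv_neg, smul_neg]⟩
  · rcases hκ with e | e <;> exact nomatch h.symm.trans e.1

theorem lat (h : ∀ w, ∃ v, C.X.dual.E v = (2 : ℤ) • w) : Lat κ (Jc C) := by
  have h1 : ∀ r ∈ full κ m, ∃ v, Jc C *ᵥ v = r.2 := fun r hr => (of_full C hκ hr).elim fun x e => ⟨_, (cov_eq C x).trans (congrArg Prod.snd e)⟩
  refine ⟨fun v e => C.X.dual.E_inj (by rw [← Jc_mulVec, e, Euc.E_zero]), fun g ⟨t, ht⟩ => ?_, h1⟩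
  rcases Nat.eq_zero_or_pos m with rfl | hm
  · exact ⟨0, Subsingleton.elim _ _⟩
  let z : Fin m := ⟨0, hm⟩
  have h2 : g = ∑ i, g i • (uv i 1 + uv z (-1)) + t • (2 : ℤ) • uv z 1 := by
    simp only [smul_add, Finset.sum_add_distrib, ← Finset.sum_smul, ht, uv_neg]
    rw [show ∑ i, g i • uv i 1 = g from (pi_eq_sum_univ' g).symm]
    module
  rw [h2]
  refine (add_mem (sum_mem fun i _ => Submodule.smul_mem _ _ ?_) (Submodule.smul_mem _ _ ?_) :
    _ ∈ LinearMap.range (Jc C).mulVecLin)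
  · by_cases e : i = z
    · rw [e, uv_neg, add_neg_cancel]
      exact zero_mem _
    · exact h1 _ (long_mem e 1 (-1))
  · exact (h _).imp fun v e => (Jc_mulVec C v).trans e

theorem range_eq (hL : Lat κ (Jc C)) : (Set.range fun x => (C.X.rc.wt x, C.X.rc.cov x)) = sub κ (Jc C) 0 :=
  Set.ext fun a => ⟨fun ⟨x, e⟩ => ⟨_, ⟨mem_full C hκ x, dotProduct_zero _⟩, e ▸ wt_eq C x, e ▸ cov_eq C x⟩,
    fun ⟨r, hr, h1, h2⟩ => (of_full C hκ hr.1).imp fun x e =>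
      Prod.ext (by rw [h1, ← e]; exact wt_eq C x) (hL.ext (by rw [h2, ← e]; exact cov_eq C x))⟩

theorem row_sp (hT : Top) (h : ∀ w, ∃ v, C.X.dual.E v = (2 : ℤ) • w) {p : ℕ} [Fact p.Prime] (hp : p ≠ 2) {k : Type} [Field k]
    [IsAlgClosed k] [CharP k p] (lf : ∀ a : k, ∃ m, 0 < m ∧ a ^ p ^ m = a) (h2 : (∃ b, C.ib b = inl ()) → (2 : k) ≠ 0)
    (P : Tws (C.rdat k p h2)) (hP : P.Fr = C.fr (frobenius k p)) (hF : (C.rdat k p h2).Fa) (hs : SP (Jc C) (Pm P.sι))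
    {S : Type} [Group S] (hπ : PiP P S) {A : Type} [CommGroup A] (hA : HasSchurMultiplier S A) (h1 : ¬ p ∣ Nat.card A)
    (h0 : 0 < Nat.card A) (hd : Nat.card A ≤ Nat.card P.Zc) {M : Ideal AlgInt} (hM : IsPModular 2 M) {X : Type} [Group X]
    [Finite X] (hX : IsQuasisimple X) (e : (X ⧸ Subgroup.center X) ≃* S) : HF M X := by
  obtain ⟨π, k1, k2⟩ := hπ
  obtain h3 := rho_diag C p h2
  have a : Alg P (rho C k) := ⟨hF, lf, rho_inj C k, fun g => by rw [hP]; exact rho_fr C p g, rho_poly C p h2, 1, _,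
    fun c => by rw [inv_one, one_mul, mul_one, h3]⟩
  have := hX.2
  obtain ⟨s, -⟩ := a.sc e.symm.isSimpleGroup (noncomm_of e (noncomm_quot hX)) k1 k2 hA (a := 0) (by simp) h0 hd
  have := a.dat.amb.finite_GF ⊤
  have := Fintype.ofFinite (GF a.aut ⊤)
  exact hf_of_sc s hA h1 hM (hT p hp a.dat _ _ (alg_st a) m κ (Jc C)
    ⟨lat C hκ h, hs, 0, (alg_rts a).trans (range_eq C hκ (lat C hκ h))⟩ M hM) hX e

omit hκ

theorem sp_gN [Fact (2 ≤ m)] : SP (Jc (cD m)) (Pm (gN m)) := by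
  refine ⟨1, fun i => if i.1 + 1 = m then -1 else 1, fun v i => ?_⟩
  have h2 : ∀ i j, Jc (cD m) i (gN m j) = gV (fun i => Jc (cD m) i j) i := fun i j => by
    show rd (zd (gN m j)) i = gV (rd (zd j)) i
    rw [← rd_gP, gP_zd]
  rw [Pm_mulVec, Equiv.Perm.one_apply, mulVec, mulVec, dotProduct, dotProduct, ← Equiv.sum_comp (gN m), Finset.mul_sum]
  refine Finset.sum_congr rfl fun j _ => ?_
  rw [Function.comp_apply, Equiv.symm_apply_apply, h2, gV]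
  by_cases e : i.1 + 1 = m <;> simp [e]

theorem ne_two {F : Type} [Field F] [Fintype F] {p f : ℕ} (hf : 0 < f) (hq : Fintype.card F = p ^ f)
    (ho : Odd (Fintype.card F)) : p ≠ 2 := by
  rintro rfl
  exact ho.not_two_dvd_nat (hq ▸ dvd_pow_self 2 hf.ne')

end CL.Spin

namespace CL

open Spin

theorem rowPodd_of (hT : Top) : Row fun S _ => IsPOmegaOdd S := by
  rintro M hM X _ _ hX ⟨F, _, _, m, hm, hodd, ⟨e⟩⟩ ih
  obtain ⟨p, hc⟩ := CharP.exists F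
  obtain ⟨f, hp, hq⟩ := FiniteField.card F p
  have : Fact p.Prime := ⟨hp⟩
  by_cases h5 : m = 3 ∧ Fintype.card F = 3
  · obtain ⟨rfl, h5⟩ := h5
    exact Exc.o73 F h5 M hM X hX ⟨e⟩ ih
  have hp2 := ne_two f.pos hq hodd
  let k := AlgebraicClosure F
  have h2 : (2 : k) ≠ 0 := fun e =>
    hp2 ((Nat.prime_dvd_prime_iff_eq hp Nat.prime_two).1 ((CharP.cast_eq_zero_iff k p 2).1 (by exact_mod_cast e)))
  let D := (cB m).rdat k p fun _ => h2
  let P := tw0 D f f.pos ((cB m).fr (frobenius k p)) ((cB m).fr_z p _ _) ((cB m).fr_y p _ _)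
  have hF : D.Fa := TE.fa_of_faith (boxB p hp2 m hm k _ D rfl).faith ⟨0, by omega⟩
  have hv : TBD.Vec D (fun b => b.1.1) ibB (cB m).th := by
    rw [show (fun b : PR m => b.1.1) = fun b => Sum.inl ((cB m).ia b) from funext fun b => (inl_ix b.lt).symm]
    exact (cB m).vec p _
  have hπ := (boxPi p m k _ F (algebraMap F k) _).1 hp2 hm D rfl hF hv P rfl hq
  refine row_sp (cB m) (.inl ⟨rfl, ⟨(inl ⟨0, by omega⟩, inl ⟨0, by omega⟩), by simp only [ps_inl]; omega⟩, if_pos rfl⟩) hT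
    (two_B m) hp2 (lf_closure F p) _ P rfl hF ((Pm_one (ι := Fin m)).symm ▸ SP.one _ : SP _ (Pm 1)) hπ (S2094.result rfl hodd m hm h5)
    (by rw [card_cyc, Nat.prime_dvd_prime_iff_eq hp Nat.prime_two]; exact hp2) (by rw [card_cyc]; decide) ?_ hM hX e
  rw [card_cyc]
  refine TE.le_card_Zc P (m := 2) Nat.prime_two (Pi.single ⟨m - 1, by omega⟩ 1) ⟨m - 1, by omega⟩ (by simp) (fun i => ?_)
    fun _ => ⟨fun e => hp2 ((Nat.prime_dvd_prime_iff_eq hp Nat.prime_two).1 e), fun i => ?_⟩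
  · rw [Finset.sum_eq_single ⟨m - 1, by omega⟩ (fun j _ hj => by simp [hj]) (by simp)]
    refine Dvd.dvd.mul_left ?_ _
    show _ ∣ TC.rv (zc _) ⬝ᵥ _
    rw [rv_zc_dot, dif_neg (by simp only; omega)]
    exact dvd_mul_right _ _
  · rw [show P.sι i = i from rfl]
    conv_lhs => rw [← mul_one (Pi.single (M := fun _ => ℕ) _ _ _)]
    exact Nat.ModEq.mul_left _ (Nat.odd_iff.1 (hq ▸ hodd)).symm

theorem rowPlus_of (hT : Top) : Row PlusO := by
  rintro M hM X _ _ hX ⟨F, _, _, m, hodd, hm, ⟨e⟩⟩ -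
  obtain ⟨p, hc⟩ := CharP.exists F
  obtain ⟨f, hp, hq⟩ := FiniteField.card F p
  have : Fact p.Prime := ⟨hp⟩
  have h2 := ne_two f.pos hq hodd
  have : Fact (2 ≤ m) := ⟨by omega⟩
  let k := AlgebraicClosure F
  let P := tD m k p f f.pos 1
  have hF : (dD m k p).Fa := TE.fa_of_faith (faithD (by omega) p k) (fst m)
  have hπ := ((boxPi p m k _ F (algebraMap F k) _).2 hm _ rfl hF vec_D P hq).1 rfl
  obtain ⟨A, _, hA, k1, k2, k3⟩ := mult_plus hp (hq ▸ dvd_pow_self p f.pos.ne') hm fun h => absurd (h.2 ▸ hodd) (by decide)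
  refine row_sp (cD m) (.inr ⟨rfl, fun _ => inr_ne_inl⟩) hT (two_D m) h2 (lf_closure F p) _ P rfl hF ((Pm_one (ι := Fin m)).symm ▸ SP.one _ : SP _ (Pm 1)) hπ hA
    k1 (Nat.pos_of_dvd_of_pos k2 four_pos) ?_ hM hX e
  obtain ⟨z2, z4⟩ := Nm.card_Zc (D := dD m k p) rfl P h2 (by omega) (Or.inl rfl)
  by_cases h7 : m % 2 = 1 ∧ Fintype.card F % 4 = 3
  · exact (Nat.le_of_dvd two_pos (k3 h7)).trans z2
  · exact (Nat.le_of_dvd four_pos k2).trans (z4 (Or.inl ⟨rfl, by rw [hq] at h7; exact h7⟩))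

theorem rowMinus_of (hT : Top) : Row MinusO := by
  rintro M hM X _ _ hX ⟨F, _, _, m, a, b, hodd, hm, hab, ⟨e⟩⟩ -
  obtain ⟨p, hc⟩ := CharP.exists F
  obtain ⟨f, hp, hq⟩ := FiniteField.card F p
  have : Fact p.Prime := ⟨hp⟩
  have h2 := ne_two f.pos hq hodd
  have : Fact (2 ≤ m) := ⟨by omega⟩
  let k := AlgebraicClosure F
  let P := tD m k p f f.pos ⟨gN m, Subgroup.mem_zpowers _⟩
  have hF : (dD m k p).Fa := TE.fa_of_faith (faithD (by omega) p k) (fst m)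
  have hπ := ((boxPi p m k _ F (algebraMap F k) _).2 hm _ rfl hF vec_D P hq).2 rfl a b hab
  refine row_sp (cD m) (.inr ⟨rfl, fun _ => inr_ne_inl⟩) hT (two_D m) h2 (lf_closure F p) _ P rfl hF sp_gN hπ
    (S2099.result rfl m hm a b hab) (by rw [card_cyc]; exact not_dvd_add hp (hq ▸ dvd_pow_self p f.pos.ne') (by omega) 4)
    (by rw [card_cyc]; exact Nat.gcd_pos_of_pos_left _ four_pos) ?_ hM hX e
  obtain ⟨z2, z4⟩ := Nm.card_Zc (D := dD m k p) rfl P h2 (by omega) (Or.inr rfl)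
  rw [card_cyc, hq]
  by_cases h7 : m % 2 = 1 ∧ p ^ (f : ℕ) % 4 = 3
  · exact (Nat.le_of_dvd four_pos (Nat.gcd_dvd_left _ _)).trans (z4 (Or.inr ⟨rfl, h7⟩))
  · have h3 := Nm.pow_mod (m := m) (Nat.odd_iff.1 (hp.odd_of_ne_two h2).pow : p ^ (f : ℕ) % 2 = 1)
    rw [if_neg h7] at h3
    exact (Nat.le_of_dvd two_pos (Nm.gcd_dvd_two (by omega))).trans z2

end CL

end Cfsg.Agent.HZ.L
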